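import Groth.Agent.FlatCrit65.GenFree
import Mathlib.RingTheory.Filtration
import Mathlib.RingTheory.ReesAlgebra
import Mathlib.RingTheory.IsTensorProduct
import Mathlib.Algebra.Module.LocalizedModule.Submodule
import Mathlib.Algebra.Module.Torsion.Basic
import Mathlib.RingTheory.Localization.BaseChange
import Mathlib.LinearAlgebra.TensorProduct.Quotient

/-! Generic flatness of the graded module of an adic filtration. -/

set_option autoImplicit false
set_option linter.style.haveILetI false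
set_option maxHeartbeats 1600000
universe u

open TensorProduct

namespace Groth.Agent.FBase64.GrFlat

/-- The graded pieces of the adic filtration. -/
abbrev piece (A : Type u) {B M : Type u} [CommRing A] [CommRing B] [Algebra A B] [AddCommGroup M] [Module B M]
    [Module A M] [IsScalarTower A B M] (J : Ideal B) (n : ℕ) :
    Submodule A (M ⧸ (J ^ (n + 1) • (⊤ : Submodule B M)).restrictScalars A) :=
  ((J ^ n • (⊤ : Submodule B M)).restrictScalars A).map ((J ^ (n + 1) • (⊤ : Submodule B M)).restrictScalars A).mkQ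

theorem exists_flat_pieces {A B M : Type u} [CommRing A] [IsDomain A] [IsNoetherianRing A] [CommRing B]
    [Algebra A B] [Algebra.FiniteType A B] [AddCommGroup M] [Module B M] [Module A M] [IsScalarTower A B M]
    [Module.Finite B M] (J : Ideal B) :
    ∃ a : A, a ≠ 0 ∧ ∀ (n : ℕ) (A' : Type u) [CommRing A'] [Algebra A A'], IsUnit (algebraMap A A' a) →
      Module.Flat A' (A' ⊗[A] piece A (M := M) J n) := by
  haveI : IsNoetherianRing B := Algebra.FiniteType.isNoetherianRing A B
  haveI : IsNoetherian B M := isNoetherian_of_isNoetherianRing_of_finite B M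
  let F := J.stableFiltration (⊤ : Submodule B M)
  let F' : J.Filtration M :=
    { N := fun i => F.N (i + 1)
      mono := fun i => F.mono (i + 1)
      smul_le := fun i => F.smul_le (i + 1) }
  let R := reesAlgebra J
  letI : AddCommGroup ↥F.submodule := AddSubgroupClass.toAddCommGroup F.submodule
  let G := ↥F.submodule ⧸ F'.submodule.comap F.submodule.subtype
  haveI : Module.Finite R ↥F.submodule := Module.Finite.iff_fg.mpr
    ((Ideal.Filtration.submodule_fg_iff_stable F fun i => IsNoetherian.noetherian _).mpr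
      (J.stableFiltration_stable ⊤))
  haveI : Module.Finite R G := Module.Finite.quotient R _
  haveI : Algebra.FiniteType A R := Algebra.FiniteType.trans ‹Algebra.FiniteType A B›
    (inferInstanceAs (Algebra.FiniteType B (reesAlgebra J)))
  obtain ⟨a, ha, hfree, -⟩ := FlatCrit65.generic_freeness (R := A) (S := R) (M := G)
  refine ⟨a, ha, fun n A' _ _ hu => ?_⟩
  haveI : Module.Free A' (A' ⊗[A] G) := hfree A' hu
  let N := fun i : ℕ => (J ^ i • (⊤ : Submodule B M)).restrictScalars A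
  let c : PolynomialModule B M →ₗ[A] M ⧸ N (n + 1) :=
    (N (n + 1)).mkQ ∘ₗ (Finsupp.lapply n) ∘ₗ (PolynomialModule.coeffLinearEquiv B A).toLinearMap
  have hc : ∀ x ∈ F.submodule, c x ∈ piece A (M := M) J n := fun x hx => ⟨x.coeff n, hx n, rfl⟩
  let p₀ : ↥F.submodule →ₗ[A] piece A (M := M) J n :=
    LinearMap.codRestrict _ (c ∘ₗ (F.submodule.subtype.restrictScalars A)) fun x => hc _ x.2
  let p : G →ₗ[A] piece A (M := M) J n :=
    ((F'.submodule.comap F.submodule.subtype).restrictScalars A).liftQ p₀ fun x hx => by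
      refine Subtype.ext ((Submodule.Quotient.mk_eq_zero _).mpr ?_)
      exact hx n
  let s₀ : N n →ₗ[A] G :=
    { toFun := fun m => Submodule.Quotient.mk ⟨PolynomialModule.single B n m.1, fun i => by
        rw [PolynomialModule.coeff_single, Finsupp.single_apply]
        split_ifs with h
        · exact h ▸ m.2
        · exact Submodule.zero_mem _⟩
      map_add' := fun x y => congrArg Submodule.Quotient.mk (Subtype.ext (PolynomialModule.single_add n x.1 y.1))
      map_smul' := fun r x => congrArg Submodule.Quotient.mk (Subtype.ext (by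
        show PolynomialModule.single B n (r • x.1) = r • PolynomialModule.single B n x.1
        rw [← algebraMap_smul B r x.1, PolynomialModule.single_smul, algebraMap_smul])) }
  have hs₀ : ∀ m, p (s₀ m) = ⟨(N (n + 1)).mkQ m.1, ⟨m.1, m.2, rfl⟩⟩ := fun m => Subtype.ext (by
    show (N (n + 1)).mkQ ((PolynomialModule.single B n m.1).coeff n) = _
    rw [PolynomialModule.coeff_single, Finsupp.single_eq_same])
  let π : N n →ₗ[A] piece A (M := M) J n :=
    LinearMap.codRestrict _ ((N (n + 1)).mkQ ∘ₗ (N n).subtype) fun m => ⟨m.1, m.2, rfl⟩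
  have hπ : Function.Surjective π := fun ⟨_, m, hm, e⟩ => ⟨⟨m, hm⟩, Subtype.ext e⟩
  have hker : LinearMap.ker π ≤ LinearMap.ker s₀ := fun m hm => by
    refine (Submodule.Quotient.mk_eq_zero _).mpr fun i => ?_
    have hm' : m.1 ∈ N (n + 1) := (Submodule.Quotient.mk_eq_zero _).mp (congrArg Subtype.val hm)
    show (PolynomialModule.single B n m.1).coeff i ∈ F.N (i + 1)
    rw [PolynomialModule.coeff_single, Finsupp.single_apply]
    split_ifs with h
    · exact h ▸ hm'
    · exact Submodule.zero_mem _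
  let sec : piece A (M := M) J n →ₗ[A] G :=
    (LinearMap.ker π).liftQ s₀ hker ∘ₗ (π.quotKerEquivOfSurjective hπ).symm.toLinearMap
  have hps : p ∘ₗ sec = LinearMap.id := by
    refine LinearMap.ext fun y => ?_
    obtain ⟨m, rfl⟩ := hπ y
    have he : (π.quotKerEquivOfSurjective hπ).symm (π m) = Submodule.Quotient.mk m :=
      (π.quotKerEquivOfSurjective hπ).injective (by simp)
    show p ((LinearMap.ker π).liftQ s₀ hker ((π.quotKerEquivOfSurjective hπ).symm (π m))) = π m
    rw [he, Submodule.liftQ_apply, hs₀]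
    rfl
  refine Module.Flat.of_retract (sec.baseChange A') (p.baseChange A') ?_
  rw [← LinearMap.baseChange_comp, hps, LinearMap.baseChange_id]

/-- Flatness of the image in a localised quotient. -/
theorem flat_map_localized {A M M' : Type u} [CommRing A] (S : Submonoid A) (A' : Type u) [CommRing A']
    [Algebra A A'] [IsLocalization S A'] [AddCommGroup M] [Module A M] [AddCommGroup M'] [Module A M']
    [Module A' M'] [IsScalarTower A A' M'] (f : M →ₗ[A] M') [IsLocalizedModule S f] (N₀ N₁ : Submodule A M)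
    (h : Module.Flat A' (A' ⊗[A] ↥(N₀.map N₁.mkQ))) :
    Module.Flat A' ↥((N₀.localized' A' S f).map (N₁.localized' A' S f).mkQ) := by
  let L := N₀.map N₁.mkQ
  let ψ := N₁.toLocalizedQuotient' A' S f
  have e : (N₀.localized' A' S f).map (N₁.localized' A' S f).mkQ = L.localized' A' S ψ := by
    rw [Submodule.localized'_eq_span A' S f N₀, Submodule.map_span, Submodule.localized'_eq_span A' S ψ L, Submodule.map_coe,
      ← Set.image_comp, ← Set.image_comp]
    rfl
  rw [e]
  have hb := (isLocalizedModule_iff_isBaseChange S A' (L.toLocalized' A' S ψ)).mp inferInstance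
  exact Module.Flat.of_linearEquiv hb.equiv.symm

variable {A₀ B₀ M₀ : Type u} [CommRing A₀] [IsNoetherianRing A₀] [CommRing B₀] [Algebra A₀ B₀]
  [Algebra.FiniteType A₀ B₀] (J₀ : Ideal B₀) [AddCommGroup M₀] [Module B₀ M₀] [Module A₀ M₀]
  [IsScalarTower A₀ B₀ M₀] [Module.Finite B₀ M₀]

/-- The piece after base change. -/
def FlatPieces (A : Type u) [CommRing A] [Algebra A₀ A] (J₀ : Ideal B₀) : Prop :=
  ∀ n : ℕ, Module.Flat A
    ↥(Submodule.map
      (LinearMap.range (LinearMap.baseChange A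
        ((J₀ ^ (n + 1) • (⊤ : Submodule B₀ M₀)).restrictScalars A₀).subtype)).mkQ
      (LinearMap.range (LinearMap.baseChange A
        ((J₀ ^ n • (⊤ : Submodule B₀ M₀)).restrictScalars A₀).subtype)))

theorem range_baseChange_subtype (A : Type u) [CommRing A] [Algebra A₀ A] (N : Submodule A₀ M₀) :
    LinearMap.range (N.subtype.baseChange A) =
      Submodule.span A ((fun x : M₀ => (1 : A) ⊗ₜ[A₀] x) '' (N : Set M₀)) := by
  refine le_antisymm ?_ (Submodule.span_le.mpr ?_)
  · rintro _ ⟨z, rfl⟩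
    induction z using TensorProduct.induction_on with
    | zero => simp
    | add x y hx hy => rw [map_add]; exact add_mem hx hy
    | tmul c m =>
      rw [LinearMap.baseChange_tmul, show c ⊗ₜ[A₀] (N.subtype m) = c • ((1 : A) ⊗ₜ[A₀] (N.subtype m)) by
        rw [TensorProduct.smul_tmul']; simp]
      exact Submodule.smul_mem _ _ (Submodule.subset_span ⟨_, m.2, rfl⟩)
  · rintro _ ⟨x, hx, rfl⟩
    exact ⟨1 ⊗ₜ ⟨x, hx⟩, by simp⟩

/-- Flat pieces over a neighbourhood in a closed integral subscheme. -/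
theorem exists_flatPieces (p : Ideal A₀) [p.IsPrime] :
    ∃ a : A₀ ⧸ p, a ≠ 0 ∧ ∀ (b : A₀ ⧸ p) (A : Type u) [CommRing A] [Algebra A₀ A] [Algebra (A₀ ⧸ p) A]
      [IsScalarTower A₀ (A₀ ⧸ p) A] [IsLocalization.Away (a * b) A], FlatPieces (A₀ := A₀) (M₀ := M₀) A J₀ := by
  let P : Ideal B₀ := p.map (algebraMap A₀ B₀)
  let M := M₀ ⧸ P • (⊤ : Submodule B₀ M₀)
  letI : Module (A₀ ⧸ p) M := Module.compHom M (algebraMap (A₀ ⧸ p) (B₀ ⧸ P))
  haveI : IsScalarTower (A₀ ⧸ p) (B₀ ⧸ P) M := .of_algebraMap_smul fun _ _ => rfl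
  haveI : IsScalarTower A₀ (A₀ ⧸ p) M := .of_algebraMap_smul fun r x => by
    show algebraMap (A₀ ⧸ p) (B₀ ⧸ P) (algebraMap A₀ (A₀ ⧸ p) r) • x = r • x
    rw [← IsScalarTower.algebraMap_apply A₀ (A₀ ⧸ p) (B₀ ⧸ P), IsScalarTower.algebraMap_apply A₀ B₀ (B₀ ⧸ P),
      ← algebraMap_smul B₀ r x]
    rfl
  haveI : Algebra.FiniteType A₀ (B₀ ⧸ P) :=
    Algebra.FiniteType.of_surjective (Ideal.Quotient.mkₐ A₀ P) (Ideal.Quotient.mkₐ_surjective A₀ P)
  haveI : Algebra.FiniteType (A₀ ⧸ p) (B₀ ⧸ P) := Algebra.FiniteType.of_restrictScalars_finiteType A₀ _ _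
  haveI : Module.Finite (B₀ ⧸ P) M := Module.Finite.of_restrictScalars_finite B₀ _ _
  haveI : IsNoetherianRing (A₀ ⧸ p) := isNoetherianRing_of_surjective A₀ _ _ Ideal.Quotient.mk_surjective
  obtain ⟨a, ha, hflat⟩ := exists_flat_pieces (A := A₀ ⧸ p) (B := B₀ ⧸ P) (M := M) (J₀.map (Ideal.Quotient.mk P))
  refine ⟨a, ha, fun b A _ _ _ _ _ n => ?_⟩
  let S : Submonoid (A₀ ⧸ p) := Submonoid.powers (a * b)
  haveI : IsLocalization S A := ‹IsLocalization.Away (a * b) A›
  let g : M₀ →ₗ[A₀] A ⊗[A₀] M₀ := TensorProduct.mk A₀ A M₀ 1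
  have hP : (P • (⊤ : Submodule B₀ M₀)).restrictScalars A₀ = p • (⊤ : Submodule A₀ M₀) := by
    rw [Ideal.smul_restrictScalars, Submodule.restrictScalars_top]
  have hgP : ∀ x ∈ (P • (⊤ : Submodule B₀ M₀)).restrictScalars A₀, g x = 0 := by
    rw [hP]
    intro x hx
    refine Submodule.smul_induction_on hx (fun c hc y _ => ?_) (fun x y hx hy => by rw [map_add, hx, hy, add_zero])
    · have hc0 : algebraMap A₀ A c = 0 := by
        rw [IsScalarTower.algebraMap_apply A₀ (A₀ ⧸ p) A, Ideal.Quotient.algebraMap_eq,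
          Ideal.Quotient.eq_zero_iff_mem.mpr hc, map_zero]
      show (1 : A) ⊗ₜ[A₀] (c • y) = 0
      rw [TensorProduct.tmul_smul, TensorProduct.smul_tmul', Algebra.smul_def, hc0, zero_mul, TensorProduct.zero_tmul]
  let f₀ : M →ₗ[A₀] A ⊗[A₀] M₀ := ((P • (⊤ : Submodule B₀ M₀)).restrictScalars A₀).liftQ g hgP
  let f : M →ₗ[A₀ ⧸ p] A ⊗[A₀] M₀ :=
    { f₀ with
      map_smul' := fun c x => by
        obtain ⟨c, rfl⟩ := Ideal.Quotient.mk_surjective c
        show f₀ (algebraMap A₀ (A₀ ⧸ p) c • x) = algebraMap A₀ (A₀ ⧸ p) c • f₀ x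
        rw [algebraMap_smul, algebraMap_smul, map_smul] }
  let g₁ : M₀ →ₗ[A₀] M := ((P • (⊤ : Submodule B₀ M₀)).mkQ).restrictScalars A₀
  have hg₁ : IsBaseChange (A₀ ⧸ p) g₁ := by
    let e₀ : (A₀ ⧸ p) ⊗[A₀] M₀ ≃ₗ[A₀] M :=
      TensorProduct.quotTensorEquivQuotSMul M₀ p ≪≫ₗ Submodule.quotEquivOfEq _ _ hP.symm
    let e₁ : (A₀ ⧸ p) ⊗[A₀] M₀ ≃ₗ[A₀ ⧸ p] M :=
      { e₀.toAddEquiv with
        map_smul' := fun c x => by
          obtain ⟨c, rfl⟩ := Ideal.Quotient.mk_surjective c
          show e₀ (algebraMap A₀ (A₀ ⧸ p) c • x) = algebraMap A₀ (A₀ ⧸ p) c • e₀ x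
          rw [algebraMap_smul, algebraMap_smul, map_smul] }
    refine IsBaseChange.of_equiv e₁ fun m => ?_
    show e₀ (Ideal.Quotient.mk p 1 ⊗ₜ[A₀] m) = g₁ m
    show Submodule.quotEquivOfEq _ _ hP.symm (TensorProduct.quotTensorEquivQuotSMul M₀ p (Ideal.Quotient.mk p 1 ⊗ₜ[A₀] m)) = g₁ m
    erw [TensorProduct.quotTensorEquivQuotSMul_mk_tmul, one_smul]
    rfl
  haveI : IsLocalizedModule S f := by
    refine (isLocalizedModule_iff_isBaseChange S A f).mpr (IsBaseChange.of_comp hg₁ ?_)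
    exact TensorProduct.isBaseChange A₀ M₀ A
  have key : ∀ i : ℕ, (((J₀.map (Ideal.Quotient.mk P)) ^ i • (⊤ : Submodule (B₀ ⧸ P) M)).restrictScalars (A₀ ⧸ p)).localized' A S f =
      LinearMap.range (LinearMap.baseChange A ((J₀ ^ i • (⊤ : Submodule B₀ M₀)).restrictScalars A₀).subtype) := by
    intro i
    rw [range_baseChange_subtype, Submodule.localized'_eq_span]
    have hset : ((((J₀.map (Ideal.Quotient.mk P)) ^ i • (⊤ : Submodule (B₀ ⧸ P) M)).restrictScalars (A₀ ⧸ p) : Submodule _ M) : Set M) =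
        (P • (⊤ : Submodule B₀ M₀)).mkQ '' ((J₀ ^ i • (⊤ : Submodule B₀ M₀) : Submodule B₀ M₀) : Set M₀) := by
      rw [← Submodule.map_coe, Submodule.map_smul'', Submodule.map_top, Submodule.range_mkQ,
        ← Ideal.map_pow, ← Submodule.restrictScalars_top B₀ (B₀ ⧸ P) M, ← Ideal.Quotient.algebraMap_eq,
        ← Ideal.smul_restrictScalars]
      rfl
    rw [hset, ← Set.image_comp]
    rfl
  have := flat_map_localized S A f
    (((J₀.map (Ideal.Quotient.mk P)) ^ n • (⊤ : Submodule (B₀ ⧸ P) M)).restrictScalars (A₀ ⧸ p))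
    (((J₀.map (Ideal.Quotient.mk P)) ^ (n + 1) • (⊤ : Submodule (B₀ ⧸ P) M)).restrictScalars (A₀ ⧸ p))
    (hflat n A (isUnit_of_mul_isUnit_left (y := algebraMap (A₀ ⧸ p) A b) (by
      rw [← map_mul]; exact IsLocalization.Away.algebraMap_isUnit (a * b))))
  rwa [key, key] at this

end Groth.Agent.FBase64.GrFlat
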