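import Groth.Agent.FBase64.GrFlat.Core
import Mathlib.AlgebraicGeometry.Morphisms.Immersion
import Mathlib.RingTheory.Ideal.MinimalPrime.Noetherian

/-! Flattening stratification for the graded pieces of an adic filtration. -/

set_option autoImplicit false
set_option linter.style.haveILetI false
universe u

open TensorProduct CategoryTheory AlgebraicGeometry PrimeSpectrum

namespace Groth.Agent.FBase64.GrFlat

variable {A₀ B₀ M₀ : Type u} [CommRing A₀] [IsNoetherianRing A₀] [CommRing B₀] [Algebra A₀ B₀]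
  [Algebra.FiniteType A₀ B₀] (J₀ : Ideal B₀) [AddCommGroup M₀] [Module B₀ M₀] [Module A₀ M₀]
  [IsScalarTower A₀ B₀ M₀] [Module.Finite B₀ M₀]

/-- An affine stratum. -/
structure Piece (A₀ : Type u) [CommRing A₀] where
  /-- The ring. -/
  ring : CommRingCat.{u}
  /-- The structure morphism. -/
  hom : CommRingCat.of A₀ ⟶ ring

/-- The underlying set of a stratum. -/
def Piece.carrier (P : Piece A₀) : Set (PrimeSpectrum A₀) := Set.range (Spec.map P.hom)

/-- The conditions on one stratum. -/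
def Piece.Good (P : Piece A₀) : Prop :=
  letI := P.hom.hom.toAlgebra
  IsImmersion (Spec.map P.hom) ∧ FlatPieces (A₀ := A₀) (M₀ := M₀) P.ring J₀

theorem exists_strata (I : Ideal A₀) :
    ∃ (m : ℕ) (P : Fin m → Piece A₀),
      (∀ i, (P i).Good (M₀ := M₀) J₀) ∧
      (∀ i j, i ≠ j → Disjoint (P i).carrier (P j).carrier) ∧
      (⋃ i, (P i).carrier) = zeroLocus (I : Set A₀) ∧
      (∀ i, ∃ U : Set (PrimeSpectrum A₀), IsOpen U ∧
        U ∩ (⋃ j, ⋃ (_ : i ≤ j), (P j).carrier) = (P i).carrier) := by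
  induction I using WellFoundedGT.induction with
  | _ I ih =>
  by_cases hI : I = ⊤
  · refine ⟨0, Fin.elim0, fun i => i.elim0, fun i => i.elim0, ?_, fun i => i.elim0⟩
    simp [hI]
  obtain ⟨p, hp⟩ := Ideal.nonempty_minimalPrimes hI
  haveI : p.IsPrime := hp.1.1
  have hfin : (I.minimalPrimes \ {p}).Finite := (Ideal.finite_minimalPrimes_of_isNoetherianRing A₀ I).subset Set.sdiff_subset
  obtain ⟨b, hb, hbp⟩ : ∃ b, (∀ q ∈ I.minimalPrimes, q ≠ p → b ∈ q) ∧ b ∉ p := by
    by_contra hcon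
    push Not at hcon
    have hle : hfin.toFinset.inf id ≤ p := fun b hb => hcon b fun q hq hqp =>
      (Finset.inf_le (f := id) (hfin.mem_toFinset.mpr ⟨hq, hqp⟩)) hb
    obtain ⟨q, hq, hqp⟩ := (Ideal.IsPrime.inf_le' ‹p.IsPrime›).mp hle
    obtain ⟨hq, hne⟩ := hfin.mem_toFinset.mp hq
    exact hne (le_antisymm hqp (hp.2 hq.1 hqp))
  obtain ⟨a, ha, hflat⟩ := exists_flatPieces (M₀ := M₀) J₀ p
  obtain ⟨a, rfl⟩ := Ideal.Quotient.mk_surjective a
  let c := a * b
  have hc : c ∉ p := fun h => (‹p.IsPrime›.mem_or_mem h).elim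
    (fun h => ha (Ideal.Quotient.eq_zero_iff_mem.mpr h)) hbp
  have hlt : I < I ⊔ Ideal.span {c} := lt_of_le_of_ne le_sup_left fun h =>
    hc (hp.1.2 (h.symm.le (Ideal.mem_sup_right (Ideal.mem_span_singleton_self c))))
  obtain ⟨m, Q, hgood, hdisj, hunion, hopen⟩ := ih _ hlt
  let A := Localization.Away (Ideal.Quotient.mk p a * Ideal.Quotient.mk p b)
  let P₀ : Piece A₀ :=
    ⟨CommRingCat.of A, CommRingCat.ofHom ((algebraMap (A₀ ⧸ p) A).comp (Ideal.Quotient.mk p))⟩
  have hcar : P₀.carrier = zeroLocus (I : Set A₀) ∩ (basicOpen c : Set (PrimeSpectrum A₀)) := by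
    show Set.range (PrimeSpectrum.comap ((algebraMap (A₀ ⧸ p) A).comp (Ideal.Quotient.mk p))) = _
    rw [PrimeSpectrum.comap_comp, Set.range_comp,
      PrimeSpectrum.localization_away_comap_range A (Ideal.Quotient.mk p a * Ideal.Quotient.mk p b)]
    ext q
    constructor
    · rintro ⟨q, hq, rfl⟩
      refine ⟨fun x hx => ?_, ?_⟩
      · show Ideal.Quotient.mk p x ∈ q.asIdeal
        rw [Ideal.Quotient.eq_zero_iff_mem.mpr (hp.1.2 hx)]
        exact Submodule.zero_mem _
      · show Ideal.Quotient.mk p c ∉ q.asIdeal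
        rw [map_mul]; exact hq
    · rintro ⟨hq, hqc⟩
      obtain ⟨r, hr, hrq⟩ := Ideal.exists_minimalPrimes_le (show I ≤ q.asIdeal from hq)
      obtain rfl : r = p := by
        by_contra hne
        exact hqc (q.asIdeal.mul_mem_left a (hrq (hb r hr hne)))
      obtain ⟨q', hq'⟩ : q ∈ Set.range (PrimeSpectrum.comap (Ideal.Quotient.mk r)) := by
        rw [range_comap_of_surjective _ _ Ideal.Quotient.mk_surjective, Ideal.mk_ker]
        exact hrq
      refine ⟨q', ?_, hq'⟩
      show Ideal.Quotient.mk r a * Ideal.Quotient.mk r b ∉ q'.asIdeal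
      rw [← map_mul]
      exact fun h => hqc (hq' ▸ h)
  have hrest : (⋃ i, (Q i).carrier) = zeroLocus (I : Set A₀) ∩ (basicOpen c : Set (PrimeSpectrum A₀))ᶜ := by
    rw [hunion, basicOpen_eq_zeroLocus_compl, compl_compl, ← zeroLocus_span {c}, ← zeroLocus_sup]
  have hsub : ∀ i, (Q i).carrier ⊆ (basicOpen c : Set (PrimeSpectrum A₀))ᶜ := fun i x hx =>
    (hrest.le (Set.mem_iUnion.mpr ⟨i, hx⟩)).2
  have hd : ∀ i, Disjoint P₀.carrier (Q i).carrier := fun i => Set.disjoint_left.mpr fun x hx hxi =>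
    hsub i hxi (hcar.le hx).2
  refine ⟨m + 1, Fin.cons P₀ Q, ?_, ?_, ?_, ?_⟩
  · refine Fin.cases ?_ fun i => ?_
    · rw [Fin.cons_zero]
      refine ⟨?_, ?_⟩
      · show IsImmersion (Spec.map (CommRingCat.ofHom ((algebraMap (A₀ ⧸ p) A).comp (Ideal.Quotient.mk p))))
        rw [CommRingCat.ofHom_comp, Spec.map_comp]
        haveI : IsClosedImmersion (Spec.map (CommRingCat.ofHom (Ideal.Quotient.mk p))) :=
          IsClosedImmersion.spec_of_surjective _ Ideal.Quotient.mk_surjective
        haveI : IsOpenImmersion (Spec.map (CommRingCat.ofHom (algebraMap (A₀ ⧸ p) A))) :=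
          IsOpenImmersion.of_isLocalization (Ideal.Quotient.mk p a * Ideal.Quotient.mk p b)
        infer_instance
      · exact @hflat (Ideal.Quotient.mk p b) A _ (((algebraMap (A₀ ⧸ p) A).comp (Ideal.Quotient.mk p)).toAlgebra) _
          (@IsScalarTower.of_algebraMap_eq' A₀ (A₀ ⧸ p) A _ _ _ _ _ (((algebraMap (A₀ ⧸ p) A).comp (Ideal.Quotient.mk p)).toAlgebra) rfl) _
    · rw [Fin.cons_succ]; exact hgood i
  · intro i j h
    induction i using Fin.cases with
    | zero =>
      induction j using Fin.cases with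
      | zero => exact absurd rfl h
      | succ j => rw [Fin.cons_zero, Fin.cons_succ]; exact hd j
    | succ i =>
      induction j using Fin.cases with
      | zero => rw [Fin.cons_zero, Fin.cons_succ]; exact (hd i).symm
      | succ j => rw [Fin.cons_succ, Fin.cons_succ]; exact hdisj i j fun e => h (congrArg _ e)
  · refine Eq.trans ?_ (Set.inter_union_compl (zeroLocus (I : Set A₀)) (basicOpen c : Set (PrimeSpectrum A₀)))
    rw [← hcar, ← hrest]
    ext x
    simp only [Set.mem_iUnion, Fin.exists_fin_succ, Set.mem_union, Fin.cons_zero, Fin.cons_succ]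
  · refine Fin.cases ?_ fun i => ?_
    · refine ⟨basicOpen c, (basicOpen c).2, Set.ext fun x => ⟨?_, fun hx => ?_⟩⟩
      · rintro ⟨hxc, hx⟩
        obtain ⟨j, -, hxj⟩ := Set.mem_iUnion₂.mp hx
        induction j using Fin.cases with
        | zero => exact hxj
        | succ j => rw [Fin.cons_succ] at hxj; exact absurd hxc (hsub j hxj)
      · exact ⟨(hcar.le (by rwa [Fin.cons_zero] at hx)).2, Set.mem_iUnion₂.mpr ⟨0, le_rfl, hx⟩⟩
    · obtain ⟨U, hU, hUi⟩ := hopen i
      refine ⟨U, hU, ?_⟩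
      rw [Fin.cons_succ, ← hUi]
      congr 1
      ext x
      simp only [Set.mem_iUnion, Fin.exists_fin_succ, Fin.cons_zero, Fin.cons_succ, Fin.succ_le_succ_iff]
      constructor
      · rintro (⟨h, -⟩ | h)
        · exact absurd h (Fin.succ_pos i).not_ge
        · exact h
      · exact Or.inr

end Groth.Agent.FBase64.GrFlat
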